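import Mathlib.LinearAlgebra.FiniteDimensional.Lemmas
import Mathlib.LinearAlgebra.Dimension.Constructions
import Mathlib.LinearAlgebra.Dimension.OrzechProperty
import Mathlib.LinearAlgebra.Basis.VectorSpace
import Mathlib.Order.Monotone.Basic
import Mathlib.RingTheory.Noetherian.Basic
import Mathlib.FieldTheory.IsSepClosed
import Mathlib.Tactic

/-!
# Semilinear endomorphisms of finite dimensional vector spaces

`T : V →ₛₗ[σ] V` for a field endomorphism `σ` (not assumed surjective): the stable span of the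
iterated images, fixed bases, surjectivity of `1 - T`, and the two solvability conditions for
Frobenius powers on separably closed fields.
-/

namespace Groth.Agent.SigmaLinLib

universe u v

variable {k : Type u} [Field k] {σ : k →+* k}
variable {V : Type v} [AddCommGroup V] [Module k V]

variable (T : V →ₛₗ[σ] V)

theorem iterate_add' (n : ℕ) (x y : V) : (⇑T)^[n] (x + y) = (⇑T)^[n] x + (⇑T)^[n] y :=
  iterate_map_add T n x y

theorem iterate_smul' (n : ℕ) (c : k) (x : V) : (⇑T)^[n] (c • x) = (⇑σ)^[n] c • (⇑T)^[n] x := by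
  induction n with
  | zero => rfl
  | succ n ih => simp only [Function.iterate_succ_apply', ih, LinearMap.map_smulₛₗ]

theorem iterate_sum' (n : ℕ) {ι : Type*} (s : Finset ι) (f : ι → V) :
    (⇑T)^[n] (∑ i ∈ s, f i) = ∑ i ∈ s, (⇑T)^[n] (f i) := by
  classical
  induction s using Finset.induction with
  | empty => simp [iterate_map_zero T n]
  | insert a s ha ih => rw [Finset.sum_insert ha, Finset.sum_insert ha, iterate_add', ih]

/-- The span of the image of the `n`-th iterate. -/
def W (n : ℕ) : Submodule k V := Submodule.span k (Set.range ((⇑T)^[n]))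

theorem W_anti : Antitone (W T) := by
  apply antitone_nat_of_succ_le
  intro n
  apply Submodule.span_mono
  rintro _ ⟨x, rfl⟩
  exact ⟨T x, (Function.iterate_succ_apply _ n x).symm⟩

theorem map_mem_W {n : ℕ} {x : V} (hx : x ∈ W T n) : T x ∈ W T (n + 1) := by
  induction hx using Submodule.span_induction with
  | mem y hy =>
    obtain ⟨z, rfl⟩ := hy
    exact Submodule.subset_span ⟨z, Function.iterate_succ_apply' _ n z⟩
  | zero => simp
  | add a b _ _ ha hb => rw [map_add]; exact add_mem ha hb
  | smul c a _ ha => rw [LinearMap.map_smulₛₗ]; exact Submodule.smul_mem _ _ ha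

theorem W_stab [FiniteDimensional k V] :
    ∃ N, (∀ n, N ≤ n → W T n = W T N) ∧ (⨅ n, W T n) = W T N := by
  obtain ⟨m, hm⟩ : ∃ m, ∀ n, m ≤ n → W T n = W T m := by
    obtain ⟨N, hN⟩ := Function.argmin_le (f := fun n => Module.finrank k (W T n)) |> fun h =>
      (⟨Function.argmin (fun n => Module.finrank k (W T n)), fun n => h n⟩ :
        ∃ N, ∀ n, Module.finrank k (W T N) ≤ Module.finrank k (W T n))
    exact ⟨N, fun n hn => Submodule.eq_of_le_of_finrank_le (W_anti T hn) (hN n)⟩
  refine ⟨m, hm, le_antisymm (iInf_le _ m) (le_iInf fun n => ?_)⟩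
  rcases le_total m n with h | h
  · exact (hm n h).ge
  · exact W_anti T h

theorem mem_inf_of_fixed {x : V} (hx : T x = x) : x ∈ ⨅ n, W T n := by
  rw [Submodule.mem_iInf]
  exact fun n => Submodule.subset_span ⟨x, Function.iterate_fixed hx n⟩

theorem eq_zero_of_nil [FiniteDimensional k V] {v : V} (hnil : ∃ n, (⇑T)^[n] v = 0)
    (hss : ∀ n, v ∈ W T n) : v = 0 := by
  obtain ⟨n, hn⟩ := hnil
  obtain ⟨N, hN, -⟩ := W_stab T
  let b := Module.finBasis k (W T N)
  have hle : W T N ≤ Submodule.span k (Set.range fun i => (⇑T)^[n] (b i : V)) := by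
    refine (hN (N + n) (Nat.le_add_right _ _)).ge.trans ?_
    rw [W, Submodule.span_le]
    rintro _ ⟨x, rfl⟩
    rw [add_comm, Function.iterate_add_apply]
    have hx : (⇑T)^[N] x ∈ W T N := Submodule.subset_span ⟨x, rfl⟩
    have hrep := congrArg ((↑) : (W T N) → V) (b.sum_repr ⟨_, hx⟩)
    simp only [AddSubmonoidClass.coe_finsetSum, SetLike.val_smul] at hrep
    rw [← hrep, iterate_sum', SetLike.mem_coe]
    refine Submodule.sum_mem _ fun i _ => ?_
    rw [iterate_smul']
    exact Submodule.smul_mem _ _ (Submodule.subset_span ⟨i, rfl⟩)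
  have hli : LinearIndependent k (fun i => (⇑T)^[n] (b i : V)) := by
    rw [linearIndependent_iff_card_le_finrank_span, Fintype.card_fin]
    exact Submodule.finrank_mono hle
  have hrep := congrArg ((↑) : (W T N) → V) (b.sum_repr ⟨v, hss N⟩)
  simp only [AddSubmonoidClass.coe_finsetSum, SetLike.val_smul] at hrep
  rw [← hrep, iterate_sum'] at hn
  simp only [iterate_smul'] at hn
  have hc := Fintype.linearIndependent_iff.1 hli _ hn
  rw [← hrep]
  refine Finset.sum_eq_zero fun i _ => ?_
  have : b.repr ⟨v, hss N⟩ i = 0 := (σ.injective.iterate n) ((hc i).trans (iterate_map_zero σ n).symm)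
  rw [this, zero_smul]

theorem injective_of_span_range [FiniteDimensional k V]
    (h1 : Submodule.span k (Set.range ⇑T) = ⊤) : Function.Injective T := by
  have hW : ∀ n, W T n = ⊤ := by
    intro n
    induction n with
    | zero => simp [W]
    | succ n ih =>
      rw [eq_top_iff, ← h1, Submodule.span_le]
      rintro _ ⟨x, rfl⟩
      exact map_mem_W T (ih ▸ Submodule.mem_top)
  rw [injective_iff_map_eq_zero]
  exact fun x hx => eq_zero_of_nil T ⟨1, hx⟩ fun n => hW n ▸ Submodule.mem_top

/-- Solvability hypothesis giving fixed vectors. -/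
def Cond2 (σ : k →+* k) : Prop :=
  ∀ (n : ℕ) (b : Fin (n + 1) → k), b ≠ 0 →
    ∃ x : k, x ≠ 0 ∧ x = ∑ i : Fin (n + 1), (⇑σ)^[i.val + 1] x * (⇑σ)^[i.val] (b (Fin.rev i))

/-- Solvability hypothesis: `σ - 1` is surjective. -/
def Cond3 (σ : k →+* k) : Prop := ∀ c : k, ∃ y : k, σ y - y + c = 0

theorem exists_fixed [FiniteDimensional k V] (h2 : Cond2 σ) (e : V)
    (he : ∀ m : ℕ, (⇑T)^[m] e ≠ 0) :
    ∃ v ∈ Submodule.span k (Set.range fun m : ℕ => (⇑T)^[m] e), v ≠ 0 ∧ T v = v := by
  classical
  set f : ℕ → V := fun m => (⇑T)^[m] e with hf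
  have hex : ∃ m, ¬ LinearIndependent k (fun i : Fin m => f i) := by
    refine ⟨Module.finrank k V + 1, fun h => ?_⟩
    simpa using h.fintype_card_le_finrank
  obtain ⟨n, hn, hli⟩ : ∃ n, ¬ LinearIndependent k (fun i : Fin (n + 1 + 1) => f i) ∧
      LinearIndependent k (fun i : Fin (n + 1) => f i) := by
    have h1 : LinearIndependent k (fun i : Fin 1 => f i) :=
      LinearIndependent.of_subsingleton 0 (he 0)
    have h0 : LinearIndependent k (fun i : Fin 0 => f i) := linearIndependent_empty_type
    have hm := Nat.find_spec hex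
    obtain ⟨n, hn⟩ : ∃ n, Nat.find hex = n + 1 + 1 := by
      refine ⟨Nat.find hex - 2, ?_⟩
      have : Nat.find hex ≠ 0 := fun h => by rw [h] at hm; exact hm h0
      have : Nat.find hex ≠ 1 := fun h => by rw [h] at hm; exact hm h1
      omega
    exact ⟨n, hn ▸ hm, not_not.1 (Nat.find_min hex (m := n + 1) (by omega))⟩
  obtain ⟨b, hb⟩ : ∃ b : Fin (n + 1) → k, f (n + 1) = ∑ i, b i • f i := by
    by_contra hc
    apply hn
    rw [show (fun i : Fin (n + 1 + 1) => f i) = Fin.snoc (fun i : Fin (n + 1) => f i) (f (n + 1)) from by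
      funext i; refine Fin.lastCases ?_ (fun j => ?_) i <;> simp]
    refine linearIndependent_finSnoc.2 ⟨hli, fun hmem => hc ?_⟩
    obtain ⟨b, hb⟩ := (Submodule.mem_span_range_iff_exists_fun k).1 hmem
    exact ⟨b, hb.symm⟩
  have hb0 : b ≠ 0 := fun h => he (n + 1) (by simpa [h, hf] using hb)
  obtain ⟨x, hx0, hx⟩ := h2 n b hb0
  let c : ℕ → k := fun m => Nat.rec (σ x * b 0)
    (fun m cm => σ cm + σ x * (if h : m + 1 < n + 1 then b ⟨m + 1, h⟩ else 0)) m
  have hc : ∀ (m : ℕ) (hm : m < n + 1), c m =
      ∑ j : Fin (n + 1) with j.val ≤ m, (⇑σ)^[m - j.val + 1] x * (⇑σ)^[m - j.val] (b j) := by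
    intro m
    induction m with
    | zero =>
      intro hm
      rw [Finset.sum_filter, Finset.sum_eq_single 0]
      · simp [c]
      · intro j _ hj; rw [if_neg]; intro h; exact hj (Fin.ext (by simpa using h))
      · simp
    | succ m ih =>
      intro hm
      have hset : (Finset.univ.filter fun j : Fin (n + 1) => j.val ≤ m + 1) =
          insert ⟨m + 1, hm⟩ (Finset.univ.filter fun j : Fin (n + 1) => j.val ≤ m) := by
        ext j; simp [Fin.ext_iff]; omega
      rw [hset, Finset.sum_insert (by simp), show c (m + 1) = σ (c m) + σ x * (if h : m + 1 < n + 1 then b ⟨m + 1, h⟩ else 0) from rfl,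
        dif_pos hm, ih (by omega), map_sum, add_comm]
      congr 1
      · simp
      · refine Finset.sum_congr rfl fun j hj => ?_
        have hj' : j.val ≤ m := (Finset.mem_filter.1 hj).2
        rw [map_mul, ← Function.iterate_succ_apply' σ, ← Function.iterate_succ_apply' σ,
          Nat.succ_eq_add_one, Nat.succ_eq_add_one, show m + 1 - j.val = m - j.val + 1 by omega]
  have hcn : c n = x := by
    conv_rhs => rw [hx]
    rw [hc n (by omega), Finset.filter_eq_self.2 (fun j _ => by omega)]
    refine Fintype.sum_equiv Fin.revPerm _ _ fun j => ?_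
    simp [Fin.val_rev]
  refine ⟨∑ i : Fin (n + 1), c i • f i,
    Submodule.sum_mem _ fun i _ => Submodule.smul_mem _ _ (Submodule.subset_span ⟨i, rfl⟩), ?_, ?_⟩
  · intro h0
    have := Fintype.linearIndependent_iff.1 hli _ h0 (Fin.last n)
    simp [hcn, hx0] at this
  · have hT : ∀ i, T (f i) = f (i + 1) := fun i => (Function.iterate_succ_apply' _ i e).symm
    rw [map_sum]
    simp only [LinearMap.map_smulₛₗ, hT]
    rw [Fin.sum_univ_castSucc]
    simp only [Fin.val_castSucc, Fin.val_last, hcn, hb, Finset.smul_sum, smul_smul]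
    rw [Fin.sum_univ_succ, Fin.sum_univ_succ (fun i => c i.val • f i.val)]
    simp only [Fin.val_succ, Fin.val_zero]
    rw [← add_assoc, add_comm _ ((σ x * b 0) • f 0), add_assoc, ← Finset.sum_add_distrib]
    congr 1
    refine Finset.sum_congr rfl fun i _ => ?_
    rw [← add_smul, show c (i.val + 1) = σ (c i.val) + σ x * (if h : i.val + 1 < n + 1 then b ⟨i.val + 1, h⟩ else 0) from rfl,
      dif_pos (by omega)]
    rfl

theorem span_fixed_eq_top [FiniteDimensional k V] (h1 : Submodule.span k (Set.range ⇑T) = ⊤)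
    (h2 : Cond2 σ) (h3 : Cond3 σ) : Submodule.span k {v | T v = v} = ⊤ := by
  set U := Submodule.span k {v | T v = v} with hU
  by_contra hne
  have hUT : U ≤ U.comap T := by
    rw [hU, Submodule.span_le]
    intro v hv
    show T v ∈ Submodule.span k {v | T v = v}
    rw [show T v = v from hv]
    exact Submodule.subset_span hv
  let Q : (V ⧸ U) →ₛₗ[σ] (V ⧸ U) := Submodule.mapQ U U T hUT
  have hQ1 : Submodule.span k (Set.range ⇑Q) = ⊤ := by
    rw [eq_top_iff]
    intro y _
    obtain ⟨y, rfl⟩ := U.mkQ_surjective y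
    have hy : y ∈ Submodule.span k (Set.range ⇑T) := h1 ▸ Submodule.mem_top
    have := Submodule.apply_mem_span_image_of_mem_span U.mkQ hy
    refine Submodule.span_mono ?_ this
    rintro _ ⟨_, ⟨z, rfl⟩, rfl⟩
    exact ⟨U.mkQ z, rfl⟩
  have hQi := injective_of_span_range Q hQ1
  obtain ⟨y, hy⟩ : ∃ y : V, y ∉ U := by
    by_contra hc; push Not at hc; exact hne (eq_top_iff.2 fun x _ => hc x)
  have hy0 : U.mkQ y ≠ 0 := by simpa using hy
  obtain ⟨w, -, hw0, hw⟩ := exists_fixed Q h2 (U.mkQ y) fun m h =>
    hy0 (hQi.iterate m (h.trans (iterate_map_zero Q m).symm))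
  obtain ⟨w, rfl⟩ := U.mkQ_surjective w
  have hd : T w - w ∈ U := by
    rw [← Submodule.Quotient.mk_eq_zero, Submodule.Quotient.mk_sub, sub_eq_zero]
    exact hw
  have key : ∀ z ∈ U, ∃ z' ∈ U, T z' - z' = -z := by
    intro z hz
    induction hz using Submodule.span_induction with
    | mem v hv =>
      obtain ⟨a, ha⟩ := h3 1
      refine ⟨a • v, Submodule.smul_mem _ _ (Submodule.subset_span hv), ?_⟩
      rw [LinearMap.map_smulₛₗ, show T v = v from hv, ← sub_smul, eq_neg_iff_add_eq_zero]
      nth_rewrite 2 [← one_smul k v]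
      rw [← add_smul, ha, zero_smul]
    | zero => exact ⟨0, zero_mem _, by simp⟩
    | add a b _ _ ha hb =>
      obtain ⟨a', ha', hae⟩ := ha
      obtain ⟨b', hb', hbe⟩ := hb
      refine ⟨a' + b', add_mem ha' hb', ?_⟩
      rw [map_add, neg_add, ← hae, ← hbe]; abel
    | smul c a haU ha =>
      clear ha
      induction haU using Submodule.span_induction generalizing c with
      | mem v hv =>
        obtain ⟨y, hy⟩ := h3 c
        refine ⟨y • v, Submodule.smul_mem _ _ (Submodule.subset_span hv), ?_⟩
        rw [LinearMap.map_smulₛₗ, show T v = v from hv, ← sub_smul, eq_neg_iff_add_eq_zero,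
          ← add_smul, hy, zero_smul]
      | zero => exact ⟨0, zero_mem _, by simp⟩
      | add a b _ _ ha hb =>
        obtain ⟨a', ha', hae⟩ := ha c
        obtain ⟨b', hb', hbe⟩ := hb c
        refine ⟨a' + b', add_mem ha' hb', ?_⟩
        rw [map_add, smul_add, neg_add, ← hae, ← hbe]; abel
      | smul d a _ ha => rw [smul_smul]; exact ha (c * d)
  obtain ⟨z', hz', hz⟩ := key _ hd
  apply hw0
  rw [Submodule.mkQ_apply, Submodule.Quotient.mk_eq_zero]
  have hfix : T (w + z') = w + z' := by
    rw [map_add, ← sub_eq_zero]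
    have : T w + T z' - (w + z') = (T w - w) + (T z' - z') := by abel
    rw [this, hz, add_neg_cancel]
  have : w = (w + z') - z' := by abel
  rw [this]
  exact sub_mem (Submodule.subset_span hfix) hz'

theorem exists_basis_fixed [FiniteDimensional k V] (h1 : Submodule.span k (Set.range ⇑T) = ⊤)
    (h2 : Cond2 σ) (h3 : Cond3 σ) :
    ∃ b : Module.Basis (Fin (Module.finrank k V)) k V, ∀ i, T (b i) = b i := by
  obtain ⟨s, hs, hspan, hli⟩ := exists_linearIndependent k {v : V | T v = v}
  rw [span_fixed_eq_top T h1 h2 h3] at hspan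
  have : Fintype s := (LinearIndependent.setFinite hli).fintype
  let B : Module.Basis s k V := Module.Basis.mk hli (by rw [Subtype.range_coe]; exact hspan.ge)
  have hcard : Fintype.card s = Module.finrank k V := (Module.finrank_eq_card_basis B).symm
  refine ⟨B.reindex (Fintype.equivFinOfCardEq hcard), fun i => ?_⟩
  simp only [Module.Basis.reindex_apply, B, Module.Basis.mk_apply]
  exact hs ((Fintype.equivFinOfCardEq hcard).symm i).2

theorem fixed_coords {ι : Type*} [Fintype ι] (b : Module.Basis ι k V) (hb : ∀ i, T (b i) = b i)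
    {n : ℕ} {v : V} (hv : (⇑T)^[n] v = v) (i : ι) : (⇑σ)^[n] (b.repr v i) = b.repr v i := by
  have h : (⇑T)^[n] v = ∑ j, (⇑σ)^[n] (b.repr v j) • b j := by
    conv_lhs => rw [← b.sum_repr v]
    rw [iterate_sum']
    exact Finset.sum_congr rfl fun j _ => by rw [iterate_smul', Function.iterate_fixed (hb j)]
  have := congrArg (fun x => b.repr x i) (hv.symm.trans h)
  simp only [Module.Basis.repr_sum_self] at this
  exact this.symm

theorem sub_surjective [FiniteDimensional k V] (h2 : Cond2 σ) (h3 : Cond3 σ) :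
    Function.Surjective (fun v : V => v - T v) := by
  induction hd : Module.finrank k V using Nat.strong_induction_on generalizing V with
  | _ d ih =>
    by_cases h1 : Submodule.span k (Set.range ⇑T) = ⊤
    · obtain ⟨b, hb⟩ := exists_basis_fixed T h1 h2 h3
      intro v
      choose y hy using fun i => h3 (b.repr v i)
      refine ⟨∑ i, y i • b i, ?_⟩
      show ∑ i, y i • b i - T (∑ i, y i • b i) = v
      rw [map_sum, ← Finset.sum_sub_distrib]
      conv_rhs => rw [← b.sum_repr v]
      refine Finset.sum_congr rfl fun i _ => ?_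
      rw [LinearMap.map_smulₛₗ, hb, ← sub_smul]
      congr 1
      linear_combination -(hy i)
    · let U := Submodule.span k (Set.range ⇑T)
      let T' : U →ₛₗ[σ] U := (T.domRestrict U).codRestrict U fun x => Submodule.subset_span ⟨x.1, rfl⟩
      have hlt : Module.finrank k U < d := hd ▸ Submodule.finrank_lt h1
      intro v
      obtain ⟨y, hy⟩ := ih _ hlt T' rfl ⟨T v, Submodule.subset_span ⟨v, rfl⟩⟩
      refine ⟨v + y.1, ?_⟩
      have hy' : y.1 - T y.1 = T v := congrArg Subtype.val hy
      show v + y.1 - T (v + y.1) = v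
      rw [map_add, ← hy']; abel

theorem mem_inf_map [FiniteDimensional k V] {x : V} (hx : x ∈ ⨅ n, W T n) : T x ∈ ⨅ n, W T n := by
  rw [Submodule.mem_iInf] at hx ⊢
  exact fun n => W_anti T (Nat.le_succ n) (map_mem_W T (hx n))

/-- `T` on the stable span. -/
def Tss [FiniteDimensional k V] : ↥(⨅ n, W T n) →ₛₗ[σ] ↥(⨅ n, W T n) :=
  (T.domRestrict _).codRestrict _ fun x => mem_inf_map T x.2

theorem span_range_Tss [FiniteDimensional k V] :
    Submodule.span k (Set.range ⇑(Tss T)) = ⊤ := by
  obtain ⟨N, hN, hinf⟩ := W_stab T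
  apply Submodule.map_injective_of_injective (⨅ n, W T n).injective_subtype
  rw [Submodule.map_span, Submodule.map_subtype_top]
  refine le_antisymm (Submodule.span_le.2 (by rintro _ ⟨x, -, rfl⟩; exact x.2)) ?_
  refine (hinf.le.trans (hN (N + 1) (Nat.le_succ _)).ge).trans ?_
  rw [W, Submodule.span_le]
  rintro _ ⟨z, rfl⟩
  refine Submodule.subset_span ⟨Tss T ⟨(⇑T)^[N] z, ?_⟩, ⟨_, rfl⟩, ?_⟩
  · rw [hinf]; exact Submodule.subset_span ⟨z, rfl⟩
  · exact (Function.iterate_succ_apply' _ N z).symm

theorem inf_succ_eq : (⨅ n : ℕ, Submodule.span k (Set.range ((⇑T)^[n + 1]))) = ⨅ n, W T n := by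
  refine le_antisymm (le_iInf fun n => ?_) (le_iInf fun n => iInf_le _ (n + 1))
  exact (iInf_le _ n).trans (W_anti T (Nat.le_succ n))

section Frobenius

variable (k) (p : ℕ) [Fact p.Prime] [CharP k p] (r : ℕ)

theorem cond3_frobenius [IsSepClosed k] (hr : 0 < r) : Cond3 (iterateFrobenius k p r) := by
  intro c
  have hq : 1 < p ^ r := Nat.one_lt_pow hr.ne' (Fact.out : p.Prime).one_lt
  have hpz : ((p ^ r : ℕ) : k) = 0 := by rw [Nat.cast_pow, CharP.cast_eq_zero, zero_pow hr.ne']
  let P : Polynomial k := Polynomial.X ^ (p ^ r) - Polynomial.X + Polynomial.C c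
  have hsep : P.Separable := by
    rw [Polynomial.separable_def]
    have : P.derivative = -1 := by
      simp only [P, Polynomial.derivative_add, Polynomial.derivative_sub, Polynomial.derivative_X_pow,
        Polynomial.derivative_X, Polynomial.derivative_C, hpz, map_zero, zero_mul, zero_sub, add_zero]
    rw [this]; exact (isCoprime_one_right).neg_right
  have hdeg : P.degree ≠ 0 := by
    intro h
    have h1 : P.coeff (p ^ r) = 0 :=
      Polynomial.coeff_eq_zero_of_degree_lt (by rw [h]; exact_mod_cast (show 0 < p ^ r by omega))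
    simp [P, Polynomial.coeff_X, Polynomial.coeff_C, hq.ne, (Fact.out : p.Prime).ne_zero] at h1
  obtain ⟨y, hy⟩ := IsSepClosed.exists_root P hdeg hsep
  exact ⟨y, by simpa [P, iterateFrobenius_def] using hy⟩

theorem cond2_frobenius [IsSepClosed k] (hr : 0 < r) : Cond2 (iterateFrobenius k p r) := by
  intro n b hb
  classical
  set σ := iterateFrobenius k p r with hσ
  have hit : ∀ (m : ℕ) (x : k), (⇑σ)^[m] x = x ^ ((p ^ r) ^ m) := by
    intro m x
    induction m with
    | zero => simp
    | succ m ih => rw [Function.iterate_succ_apply', ih, hσ, iterateFrobenius_def, ← pow_mul, pow_succ (p^r) m]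
  have hq : 1 < p ^ r := Nat.one_lt_pow hr.ne' (Fact.out : p.Prime).one_lt
  have hqi : ∀ i : ℕ, 1 < (p ^ r) ^ (i + 1) := fun i => Nat.one_lt_pow (Nat.succ_ne_zero i) hq
  have hz : ∀ i : ℕ, (((p ^ r) ^ (i + 1) : ℕ) : k) = 0 := fun i => by
    rw [Nat.cast_pow, Nat.cast_pow, CharP.cast_eq_zero, zero_pow hr.ne', zero_pow (Nat.succ_ne_zero i)]
  set b' : Fin (n + 1) → k := fun i => (⇑σ)^[i.val] (b (Fin.rev i)) with hb'
  obtain ⟨j, hj⟩ : ∃ j, b' j ≠ 0 := by
    obtain ⟨i, hi⟩ := Function.ne_iff.1 hb
    refine ⟨Fin.rev i, fun h => hi ?_⟩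
    simp only [hb', Fin.rev_rev] at h
    exact (σ.injective.iterate _) (h.trans (iterate_map_zero σ _).symm)
  let P : Polynomial k :=
    ∑ i, Polynomial.C (b' i) * Polynomial.X ^ ((p ^ r) ^ (i.val + 1)) - Polynomial.X
  have hsep : P.Separable := by
    rw [Polynomial.separable_def]
    have : P.derivative = -1 := by
      simp only [P, Polynomial.derivative_sub, Polynomial.derivative_sum, Polynomial.derivative_C_mul,
        Polynomial.derivative_X_pow, hz, map_zero, zero_mul, mul_zero, Finset.sum_const_zero,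
        Polynomial.derivative_X, zero_sub]
    rw [this]; exact (isCoprime_one_right).neg_right
  have hdeg : 2 ≤ P.natDegree := by
    refine le_trans (show 2 ≤ (p ^ r) ^ (j.val + 1) from hqi j) (Polynomial.le_natDegree_of_ne_zero ?_)
    simp only [P, Polynomial.coeff_sub, Polynomial.finsetSum_coeff, Polynomial.coeff_C_mul_X_pow,
      Polynomial.coeff_X]
    rw [if_neg (hqi j).ne, sub_zero, Finset.sum_eq_single j]
    · simpa using hj
    · intro i _ hij
      rw [if_neg]
      intro he
      exact hij (Fin.ext (by simpa using (Nat.pow_right_injective hq he).symm))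
    · simp
  have hsp := IsSepClosed.splits_of_separable P hsep
  have hcard : 2 ≤ P.roots.card := hsp.natDegree_eq_card_roots ▸ hdeg
  have hnd : P.roots.Nodup := Polynomial.nodup_roots hsep
  obtain ⟨x, hx, hx0⟩ : ∃ x ∈ P.roots, x ≠ 0 := by
    by_contra hc
    push Not at hc
    have : P.roots ≤ {0} := (Multiset.le_iff_subset hnd).2 fun x hx => Multiset.mem_singleton.2 (hc x hx)
    have := Multiset.card_le_card this
    simp at this; omega
  refine ⟨x, hx0, ?_⟩
  have := (Polynomial.mem_roots'.1 hx).2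
  simp only [Polynomial.IsRoot, P, Polynomial.eval_sub, Polynomial.eval_finsetSum,
    Polynomial.eval_mul, Polynomial.eval_C, Polynomial.eval_pow, Polynomial.eval_X, sub_eq_zero] at this
  conv_lhs => rw [← this]
  refine Finset.sum_congr rfl fun i _ => ?_
  simp only [hb', hit]; ring

variable {k p r}

/-- A `q`-linear additive map as a semilinear map. -/
def ofQLinear (φ : V →+ V) (hφ : ∀ (c : k) (v : V), φ (c • v) = c ^ (p ^ r) • φ v) :
    V →ₛₗ[iterateFrobenius k p r] V where
  toFun := φ
  map_add' := map_add φ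
  map_smul' c v := by simp [hφ, iterateFrobenius_def]

theorem iterateFrobenius_iterate (m : ℕ) (x : k) :
    (⇑(iterateFrobenius k p r))^[m] x = x ^ ((p ^ r) ^ m) := by
  induction m with
  | zero => simp
  | succ m ih => rw [Function.iterate_succ_apply', ih, iterateFrobenius_def, ← pow_mul, pow_succ (p ^ r) m]

end Frobenius

end Groth.Agent.SigmaLinLib
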