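import Groth.Agent.Lib.SigmaLin.Basic
import Mathlib.RingTheory.LocalRing.ResidueField.Basic
import Mathlib.RingTheory.Ideal.Quotient.Operations
import Mathlib.RingTheory.Finiteness.Cardinality
import Mathlib.FieldTheory.IsAlgClosed.Basic
import Mathlib.FieldTheory.Perfect

/-!
# Semilinear endomorphisms of finite modules over a local ring with nilpotent maximal ideal `(p)`
-/

namespace Groth.Agent.SigmaLinLib

universe u v

variable {p : ℕ} {R : Type u} [CommRing R] [IsLocalRing R]
  (hmax : IsLocalRing.maximalIdeal R = Ideal.span {(p : R)})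
  {σ : R →+* R} {σbar : IsLocalRing.ResidueField R →+* IsLocalRing.ResidueField R}
  (hσbar : ∀ r : R, σbar (IsLocalRing.residue R r) = IsLocalRing.residue R (σ r))
  {M : Type v} [AddCommGroup M] [Module R M] (T : M →ₛₗ[σ] M)

/-- `p M`. -/
def pSub (p : ℕ) (R : Type u) [CommRing R] (M : Type v) [AddCommGroup M] [Module R M] :
    Submodule R M :=
  LinearMap.range ((p : R) • (LinearMap.id : M →ₗ[R] M))

theorem mem_pSub {x : M} : x ∈ pSub p R M ↔ ∃ y, (p : R) • y = x := by simp [pSub]

theorem map_p_smul (y : M) : T ((p : R) • y) = (p : R) • T y := by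
  rw [LinearMap.map_smulₛₗ, map_natCast]

theorem pSub_le_comap : pSub p R M ≤ (pSub p R M).comap T := by
  intro x hx
  obtain ⟨y, rfl⟩ := mem_pSub.1 hx
  exact mem_pSub.2 ⟨T y, (map_p_smul T y).symm⟩

/-- The residue-field structure on `M / pM`. -/
@[reducible] def resModule :
    Module (IsLocalRing.ResidueField R) (M ⧸ pSub p R M) :=
  Module.IsTorsionBySet.module (I := IsLocalRing.maximalIdeal R) (M := M ⧸ pSub p R M) (by
    rintro x ⟨r, hr⟩
    obtain ⟨x, rfl⟩ := (pSub p R M).mkQ_surjective x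
    rw [SetLike.mem_coe, hmax, Ideal.mem_span_singleton'] at hr
    obtain ⟨a, rfl⟩ := hr
    show (a * (p : R)) • (pSub p R M).mkQ x = 0
    rw [← map_smul, Submodule.mkQ_apply, Submodule.Quotient.mk_eq_zero]
    exact mem_pSub.2 ⟨a • x, by rw [smul_smul, mul_comm]⟩)

include hmax hσbar in
theorem residue_data [Module.Finite R M] :
    letI := resModule (M := M) hmax
    ∃ (_ : FiniteDimensional (IsLocalRing.ResidueField R) (M ⧸ pSub p R M))
      (Q : (M ⧸ pSub p R M) →ₛₗ[σbar] (M ⧸ pSub p R M)),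
      ∀ x, Q ((pSub p R M).mkQ x) = (pSub p R M).mkQ (T x) := by
  letI := resModule (M := M) hmax
  haveI : IsScalarTower R (IsLocalRing.ResidueField R) (M ⧸ pSub p R M) :=
    Module.IsTorsionBySet.isScalarTower _
  refine ⟨Module.Finite.of_restrictScalars_finite R _ _,
    { toFun := Submodule.mapQ _ _ T (pSub_le_comap T)
      map_add' := map_add _
      map_smul' := fun c x => ?_ }, fun x => rfl⟩
  obtain ⟨r, rfl⟩ := IsLocalRing.residue_surjective c
  obtain ⟨x, rfl⟩ := (pSub p R M).mkQ_surjective x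
  rw [hσbar, ← IsLocalRing.ResidueField.algebraMap_eq, algebraMap_smul, algebraMap_smul, map_smulₛₗ]

include hmax hσbar in
theorem local_sub_surjective (h2 : Cond2 σbar) (h3 : Cond3 σbar) [Module.Finite R M]
    {n : ℕ} (hn : (p : R) ^ n = 0) : Function.Surjective (fun m : M => m - T m) := by
  letI := resModule (M := M) hmax
  obtain ⟨_, Q, hQ⟩ := residue_data hmax hσbar T
  have step : ∀ m : M, ∃ x z, m = (x - T x) + (p : R) • z := by
    intro m
    obtain ⟨q, hq⟩ := sub_surjective Q h2 h3 ((pSub p R M).mkQ m)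
    obtain ⟨x, rfl⟩ := (pSub p R M).mkQ_surjective q
    have hq' : (pSub p R M).mkQ x - Q ((pSub p R M).mkQ x) = (pSub p R M).mkQ m := hq
    rw [hQ, ← map_sub, Submodule.mkQ_apply, Submodule.mkQ_apply, Submodule.Quotient.eq] at hq'
    obtain ⟨z, hz⟩ := mem_pSub.1 hq'
    exact ⟨x, -z, by rw [smul_neg, hz]; abel⟩
  intro m
  have hall : ∀ j, ∃ x z, m = (x - T x) + ((p : R) ^ j) • z := by
    intro j
    induction j with
    | zero => exact ⟨0, m, by simp⟩
    | succ j ih =>
      obtain ⟨x, z, hxz⟩ := ih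
      obtain ⟨x', z', hz⟩ := step z
      refine ⟨x + (p : R) ^ j • x', z', ?_⟩
      rw [hxz, hz, map_add, LinearMap.map_smulₛₗ, map_pow, map_natCast, pow_succ, smul_add, smul_sub,
        smul_smul]
      abel
  obtain ⟨x, z, h⟩ := hall n
  exact ⟨x, by simp [h, hn]⟩

include hmax hσbar in
theorem exists_fixed_mod (h2 : Cond2 σbar) (h3 : Cond3 σbar) [Module.Finite R M]
    {n : ℕ} (hn : (p : R) ^ n = 0)
    (hlift : ∀ x, σbar x = x → ∃ r : R, σ r = r ∧ IsLocalRing.residue R r = x) :
    ∃ (N : ℕ) (s : Fin N → M), (∀ i, T (s i) = s i) ∧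
      ∀ m, T m = m → ∃ c : Fin N → R, (∀ i, σ (c i) = c i) ∧ m - ∑ i, c i • s i ∈ pSub p R M := by
  classical
  letI := resModule (M := M) hmax
  haveI : IsScalarTower R (IsLocalRing.ResidueField R) (M ⧸ pSub p R M) :=
    Module.IsTorsionBySet.isScalarTower _
  obtain ⟨_, Q, hQ⟩ := residue_data hmax hσbar T
  obtain ⟨b, hb, hspan, hli⟩ := exists_linearIndependent (IsLocalRing.ResidueField R) {q | Q q = q}
  haveI : Finite b := LinearIndependent.finite hli
  obtain ⟨N, ⟨e⟩⟩ := Finite.exists_equiv_fin b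
  have hfix : ∀ i, ∃ y : M, T y = y ∧ (pSub p R M).mkQ y = (e.symm i).1 := by
    intro i
    obtain ⟨y, hy⟩ := (pSub p R M).mkQ_surjective (e.symm i).1
    have h := hb (e.symm i).2
    rw [Set.mem_setOf_eq, ← hy, hQ, Submodule.mkQ_apply, Submodule.mkQ_apply, Submodule.Quotient.eq] at h
    obtain ⟨z, hz⟩ := mem_pSub.1 h
    obtain ⟨w, hw⟩ := local_sub_surjective hmax hσbar T h2 h3 hn z
    simp only at hw
    refine ⟨y + (p : R) • w, ?_, ?_⟩
    · rw [← sub_eq_zero, map_add, map_p_smul,
        show T y + (p : R) • T w - (y + (p : R) • w) = (T y - y) - ((p : R) • w - (p : R) • T w) by abel,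
        ← smul_sub, hw, hz, sub_self]
    · rw [map_add, hy]
      have : (pSub p R M).mkQ ((p : R) • w) = 0 := by
        rw [Submodule.mkQ_apply, Submodule.Quotient.mk_eq_zero]; exact mem_pSub.2 ⟨w, rfl⟩
      rw [this, add_zero]
  choose s hs hsq using hfix
  refine ⟨N, s, hs, fun m hm => ?_⟩
  let v : Fin N → M ⧸ pSub p R M := fun i => (e.symm i).1
  have hliv : LinearIndependent (IsLocalRing.ResidueField R) v := hli.comp e.symm e.symm.injective
  have hrange : Set.range v = b := by
    ext x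
    exact ⟨fun ⟨i, hi⟩ => hi ▸ (e.symm i).2, fun hx => ⟨e ⟨x, hx⟩, by simp [v]⟩⟩
  have hm' : (pSub p R M).mkQ m ∈ Submodule.span (IsLocalRing.ResidueField R) (Set.range v) := by
    rw [hrange, hspan]
    exact Submodule.subset_span (by rw [Set.mem_setOf_eq, hQ, hm])
  obtain ⟨c, hc⟩ := (Submodule.mem_span_range_iff_exists_fun _).1 hm'
  have hcfix : ∀ i, σbar (c i) = c i := by
    have h1 : ∑ i, σbar (c i) • v i = ∑ i, c i • v i := by
      conv_rhs => rw [hc, ← hm, ← hQ, ← hc, map_sum]
      refine Finset.sum_congr rfl fun i _ => ?_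
      rw [LinearMap.map_smulₛₗ, show Q (v i) = v i from hb (e.symm i).2]
    intro i
    have := Fintype.linearIndependent_iff.1 hliv (fun i => σbar (c i) - c i)
      (by simp only [sub_smul, Finset.sum_sub_distrib, h1, sub_self]) i
    exact sub_eq_zero.1 this
  choose r hr hrc using fun i => hlift (c i) (hcfix i)
  refine ⟨r, hr, ?_⟩
  rw [← Submodule.Quotient.mk_eq_zero, ← Submodule.mkQ_apply, map_sub, map_sum, sub_eq_zero, ← hc]
  refine Finset.sum_congr rfl fun i _ => ?_
  rw [map_smul, hsq, ← hrc, ← IsLocalRing.ResidueField.algebraMap_eq, algebraMap_smul]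

include hmax hσbar in
theorem fixed_finite_over (h2 : Cond2 σbar) (h3 : Cond3 σbar) [Module.Finite R M]
    {n : ℕ} (hn : (p : R) ^ n = 0)
    (hlift : ∀ x, σbar x = x → ∃ r : R, σ r = r ∧ IsLocalRing.residue R r = x) :
    ∃ s : Finset M, (∀ m ∈ s, T m = m) ∧
      ∀ m : M, T m = m → ∃ c : M → R, (∀ x ∈ s, σ (c x) = c x) ∧ m = ∑ x ∈ s, c x • x := by
  classical
  suffices H : ∀ (j : ℕ) (M : Type v) [AddCommGroup M] [Module R M] [Module.Finite R M]
      (T : M →ₛₗ[σ] M), (∀ x : M, (p : R) ^ j • x = 0) →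
      ∃ (N : ℕ) (s : Fin N → M), (∀ i, T (s i) = s i) ∧
        ∀ m, T m = m → ∃ c : Fin N → R, (∀ i, σ (c i) = c i) ∧ m = ∑ i, c i • s i by
    obtain ⟨N, s, hs, h⟩ := H n M T (fun x => by rw [hn, zero_smul])
    refine ⟨Finset.univ.image s, fun m hm => ?_, fun m hm => ?_⟩
    · obtain ⟨i, -, rfl⟩ := Finset.mem_image.1 hm; exact hs i
    · obtain ⟨c, hc, rfl⟩ := h m hm
      refine ⟨fun x => ∑ i with s i = x, c i,
        fun x _ => by rw [map_sum]; exact Finset.sum_congr rfl fun i _ => hc i, ?_⟩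
      simp only [Finset.sum_smul]
      rw [← Finset.sum_fiberwise_of_maps_to
        (fun i _ => Finset.mem_image_of_mem s (Finset.mem_univ i)) (fun i => c i • s i)]
      refine Finset.sum_congr rfl fun x _ => Finset.sum_congr rfl fun i hi => ?_
      rw [(Finset.mem_filter.1 hi).2]
  intro j
  induction j with
  | zero =>
    intro M _ _ _ T h
    exact ⟨0, Fin.elim0, fun i => i.elim0,
      fun m _ => ⟨Fin.elim0, fun i => i.elim0, by simpa using h m⟩⟩
  | succ j ih =>
    intro M _ _ _ T h
    obtain ⟨N, s, hs, hsmod⟩ := exists_fixed_mod hmax hσbar T h2 h3 hn hlift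
    haveI : Module.Finite R (pSub p R M) := by unfold pSub; exact Module.Finite.range _
    let T' : pSub p R M →ₛₗ[σ] pSub p R M :=
      (T.domRestrict (pSub p R M)).codRestrict (pSub p R M) fun x => pSub_le_comap T x.2
    obtain ⟨N', s', hs', hsub⟩ := ih (pSub p R M) T' (fun x => by
      obtain ⟨y, hy⟩ := mem_pSub.1 x.2
      apply Subtype.ext
      rw [SetLike.val_smul, ← hy, smul_smul, ← pow_succ, h, ZeroMemClass.coe_zero])
    refine ⟨N + N', Fin.append s (fun i => (s' i : M)),
      Fin.addCases (fun i => by simp [hs]) (fun i => by rw [Fin.append_right]; exact congrArg Subtype.val (hs' i)),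
      fun m hm => ?_⟩
    obtain ⟨c, hc, hmem⟩ := hsmod m hm
    obtain ⟨c', hc', hc''⟩ := hsub ⟨_, hmem⟩ (Subtype.ext (by
      show T (m - ∑ i, c i • s i) = m - ∑ i, c i • s i
      rw [map_sub, hm, map_sum]
      congr 1
      exact Finset.sum_congr rfl fun i _ => by rw [LinearMap.map_smulₛₗ, hc, hs]))
    refine ⟨Fin.append c c', Fin.addCases (fun i => by simp [hc]) (fun i => by simp [hc']), ?_⟩
    have := congrArg Subtype.val hc''
    simp only [AddSubmonoidClass.coe_finsetSum, SetLike.val_smul] at this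
    rw [Fin.sum_univ_add]
    simp only [Fin.append_left, Fin.append_right]
    rw [← this]; abel

section AlgClosed

variable (k : Type u) [Field k] (q : ℕ) [Fact q.Prime] [CharP k q] [IsAlgClosed k]

theorem cond3_frobenius_inv : Cond3 ((frobeniusEquiv k q).symm.toRingHom) := by
  intro c
  obtain ⟨y, hy⟩ := cond3_frobenius k q 1 one_pos (-c)
  simp only [iterateFrobenius_def, pow_one] at hy
  refine ⟨y ^ q, ?_⟩
  show (frobeniusEquiv k q).symm (y ^ q) - y ^ q + c = 0
  rw [show y ^ q = frobeniusEquiv k q y from rfl, RingEquiv.symm_apply_apply]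
  show y - y ^ q + c = 0
  linear_combination -hy

theorem cond2_frobenius_inv : Cond2 ((frobeniusEquiv k q).symm.toRingHom) := by
  intro n b hb
  classical
  set φ := (frobeniusEquiv k q).symm.toRingHom with hφ
  have hp1 : 1 < q := (Fact.out : q.Prime).one_lt
  have hroot : ∀ (m : ℕ) (x : k), ((⇑φ)^[m] x) ^ q ^ m = x := by
    intro m
    induction m with
    | zero => simp
    | succ m ih =>
      intro x
      rw [Function.iterate_succ_apply', pow_succ', pow_mul]
      have : φ ((⇑φ)^[m] x) ^ q = (⇑φ)^[m] x := frobeniusEquiv_symm_pow_p k q _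
      rw [this, ih]
  let e : Fin (n + 1) → k := fun i => ((⇑φ)^[i.val] (b (Fin.rev i))) ^ q ^ (n + 1)
  obtain ⟨j, hj⟩ : ∃ j, e j ≠ 0 := by
    obtain ⟨i, hi⟩ := Function.ne_iff.1 hb
    refine ⟨Fin.rev i, pow_ne_zero _ fun h => hi ?_⟩
    rw [Fin.rev_rev] at h
    exact (φ.injective.iterate _) (h.trans (iterate_map_zero φ _).symm)
  let P : Polynomial k :=
    Polynomial.X ^ q ^ (n + 1) - ∑ i : Fin (n + 1), Polynomial.C (e i) * Polynomial.X ^ q ^ (n - i.val)
  have hcoeff : P.coeff (q ^ (n - j.val)) = -e j := by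
    simp only [P, Polynomial.coeff_sub, Polynomial.coeff_X_pow, Polynomial.finsetSum_coeff,
      Polynomial.coeff_C_mul_X_pow]
    rw [if_neg (Nat.pow_lt_pow_right hp1 (by omega)).ne, Finset.sum_eq_single j]
    · simp
    · intro i _ hij
      rw [if_neg]
      intro he
      have := Nat.pow_right_injective hp1 he
      exact hij (Fin.ext (by omega))
    · simp
  have hmonic : P.Monic := by
    apply Polynomial.monic_X_pow_sub
    refine (Polynomial.degree_sum_le _ _).trans_lt ?_
    rw [Finset.sup_lt_iff (by exact_mod_cast (WithBot.bot_lt_coe (q ^ (n + 1))))]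
    intro i _
    refine (Polynomial.degree_C_mul_X_pow_le _ _).trans_lt ?_
    exact_mod_cast Nat.pow_lt_pow_right hp1 (show n - i.val < n + 1 by omega)
  obtain ⟨x, hx, hx0⟩ : ∃ x ∈ P.roots, x ≠ 0 := by
    by_contra hc
    push Not at hc
    have hP := (IsAlgClosed.splits P).eq_prod_roots_of_monic hmonic
    rw [Multiset.eq_replicate_card.2 hc, Multiset.map_replicate, Multiset.prod_replicate, map_zero, sub_zero] at hP
    rw [hP, Polynomial.coeff_X_pow] at hcoeff
    split_ifs at hcoeff with h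
    · have hdeg : P.natDegree = q ^ (n + 1) := by
        refine Polynomial.natDegree_eq_of_le_of_coeff_ne_zero ?_ ?_
        · refine (Polynomial.natDegree_sub_le _ _).trans (max_le (by simp) ?_)
          refine Polynomial.natDegree_sum_le_of_forall_le _ _ fun i _ => ?_
          exact (Polynomial.natDegree_C_mul_X_pow_le _ _).trans (Nat.pow_le_pow_right hp1.le (by omega))
        · simp only [P, Polynomial.coeff_sub, Polynomial.coeff_X_pow, Polynomial.finsetSum_coeff,
            Polynomial.coeff_C_mul_X_pow]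
          simp only [↓reduceIte]
          rw [Finset.sum_eq_zero fun i _ => if_neg (Nat.pow_lt_pow_right hp1 (by omega)).ne', sub_zero]
          exact one_ne_zero
      rw [← (IsAlgClosed.splits P).natDegree_eq_card_roots, hdeg] at h
      exact (Nat.pow_lt_pow_right hp1 (show n - j.val < n + 1 by omega)).ne h
    · exact hj (neg_eq_zero.1 hcoeff.symm)
  refine ⟨x, hx0, ?_⟩
  have heval := (Polynomial.mem_roots'.1 hx).2
  simp only [Polynomial.IsRoot, P, Polynomial.eval_sub, Polynomial.eval_finsetSum, Polynomial.eval_mul,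
    Polynomial.eval_C, Polynomial.eval_pow, Polynomial.eval_X, sub_eq_zero] at heval
  apply (iterateFrobenius_inj k q (n + 1))
  simp only [iterateFrobenius_def, sum_pow_char_pow, mul_pow]
  rw [heval]
  refine Finset.sum_congr rfl fun i _ => ?_
  rw [mul_comm]
  congr 1
  conv_rhs => rw [show q ^ (n + 1) = q ^ (i.val + 1) * q ^ (n - i.val) by rw [← pow_add]; congr 1; omega,
    pow_mul, hroot]

end AlgClosed

end Groth.Agent.SigmaLinLib
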