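import Groth.Agent.Lib.SigmaLin.Local
import Groth.Prelude.Def_WittGrp
import Mathlib.RingTheory.WittVector.DiscreteValuationRing
import Mathlib.RingTheory.WittVector.Complete
import Mathlib.RingTheory.LocalRing.Basic

/-!
# Semilinear endomorphisms over truncated Witt vectors of an algebraically closed field
-/

namespace Groth.Agent.SigmaLinLib

universe u v

variable (p : ℕ) [Fact p.Prime] (k : Type u) [Field k] [CharP k p] [IsAlgClosed k] (n : ℕ)

theorem trunc_nontrivial (hn : 0 < n) : Nontrivial (TruncatedWittVector p n k) :=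
  ⟨TruncatedWittVector.mk p (fun _ => (0 : k)), TruncatedWittVector.mk p (fun _ => (1 : k)),
    fun h => by
      have := congrArg (fun x => x.coeff (⟨0, hn⟩ : Fin n)) h
      simp at this⟩

theorem trunc_isLocal (hn : 0 < n) : IsLocalRing (TruncatedWittVector p n k) :=
  haveI := trunc_nontrivial p k n hn
  IsLocalRing.of_surjective' (WittVector.truncate n) (WittVector.truncate_surjective p n k)

theorem trunc_p_pow : (p : TruncatedWittVector p n k) ^ n = 0 := by
  have h : (WittVector.truncate n) ((p : WittVector p k) ^ n) = 0 := by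
    rw [← RingHom.mem_ker, WittVector.mem_ker_truncate]
    intro i hi
    exact WittVector.coeff_p_pow_eq_zero p k hi.ne
  rwa [map_pow, map_natCast] at h

theorem trunc_maximalIdeal (hn : 0 < n) [IsLocalRing (TruncatedWittVector p n k)] :
    IsLocalRing.maximalIdeal (TruncatedWittVector p n k) =
      Ideal.span {(p : TruncatedWittVector p n k)} := by
  refine le_antisymm (fun x hx => ?_) ?_
  · obtain ⟨X, rfl⟩ := WittVector.truncate_surjective p n k x
    by_contra h
    apply hx
    have : X.coeff 0 ≠ 0 := fun h0 => h (by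
      obtain ⟨Y, rfl⟩ := Ideal.mem_span_singleton'.1 ((WittVector.mem_span_p_iff_coeff_zero_eq_zero X).2 h0)
      rw [map_mul, map_natCast]
      exact Ideal.mem_span_singleton'.2 ⟨_, rfl⟩)
    exact (WittVector.isUnit_of_coeff_zero_ne_zero X this).map _
  · rw [Ideal.span_le, Set.singleton_subset_iff, SetLike.mem_coe, IsLocalRing.mem_maximalIdeal]
    intro hu
    have h0 := (hu.pow n)
    rw [trunc_p_pow p k n] at h0
    haveI := trunc_nontrivial p k n hn
    exact not_isUnit_zero h0

/-- The zeroth coefficient, as a ring map. -/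
noncomputable def coeffZero (hn : 0 < n) : TruncatedWittVector p n k →+* k where
  toFun x := x.coeff ⟨0, hn⟩
  map_one' := by
    rw [← map_one (WittVector.truncate (p := p) (R := k) n), WittVector.coeff_truncate,
      WittVector.one_coeff_zero]
  map_zero' := by
    rw [← map_zero (WittVector.truncate (p := p) (R := k) n), WittVector.coeff_truncate,
      WittVector.zero_coeff]
  map_mul' x y := by
    obtain ⟨x, rfl⟩ := WittVector.truncate_surjective p n k x
    obtain ⟨y, rfl⟩ := WittVector.truncate_surjective p n k y
    simp only [← map_mul, WittVector.coeff_truncate, WittVector.mul_coeff_zero]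
  map_add' x y := by
    obtain ⟨x, rfl⟩ := WittVector.truncate_surjective p n k x
    obtain ⟨y, rfl⟩ := WittVector.truncate_surjective p n k y
    simp only [← map_add, WittVector.coeff_truncate, WittVector.add_coeff_zero]

theorem Cond2.of_equiv {k K : Type u} [Field k] [Field K] (e : k ≃+* K) {f : k →+* k} {g : K →+* K}
    (hc : ∀ x, g (e x) = e (f x)) (h : Cond2 f) : Cond2 g := by
  have hit : ∀ (m : ℕ) (x : k), (⇑g)^[m] (e x) = e ((⇑f)^[m] x) := by
    intro m
    induction m with
    | zero => simp
    | succ m ih => intro x; rw [Function.iterate_succ_apply', Function.iterate_succ_apply', ih, hc]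
  intro m b hb
  obtain ⟨x, hx0, hx⟩ := h m (fun i => e.symm (b i)) (fun hh => hb (funext fun i => by
    simpa using congrArg e (congrFun hh i)))
  refine ⟨e x, by simpa using hx0, ?_⟩
  conv_lhs => rw [hx, map_sum]
  refine Finset.sum_congr rfl fun i _ => ?_
  rw [map_mul, ← hit, ← hit, RingEquiv.apply_symm_apply]

theorem Cond3.of_equiv {k K : Type u} [Field k] [Field K] (e : k ≃+* K) {f : k →+* k} {g : K →+* K}
    (hc : ∀ x, g (e x) = e (f x)) (h : Cond3 f) : Cond3 g := by
  intro c
  obtain ⟨y, hy⟩ := h (e.symm c)
  refine ⟨e y, ?_⟩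
  have := congrArg e hy
  rwa [map_add, map_sub, map_zero, RingEquiv.apply_symm_apply, ← hc] at this

/-- The data needed from a coefficientwise endomorphism of truncated Witt vectors. -/
theorem trunc_data (hn : 0 < n) [IsLocalRing (TruncatedWittVector p n k)] (f : k →+* k)
    (h2 : Cond2 f) (h3 : Cond3 f) :
    ∃ σbar : IsLocalRing.ResidueField (TruncatedWittVector p n k) →+*
        IsLocalRing.ResidueField (TruncatedWittVector p n k),
      (∀ r, σbar (IsLocalRing.residue _ r) = IsLocalRing.residue _ (WittGrp.truncMap p n f r)) ∧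
      Cond2 σbar ∧ Cond3 σbar ∧
      ∀ x, σbar x = x → ∃ r, WittGrp.truncMap p n f r = r ∧ IsLocalRing.residue _ r = x := by
  have hsurj : Function.Surjective (coeffZero p k n hn) := fun a =>
    ⟨TruncatedWittVector.mk p (fun _ => a), TruncatedWittVector.coeff_mk (p := p) (fun _ => a) (⟨0, hn⟩ : Fin n)⟩
  have hker : RingHom.ker (coeffZero p k n hn) = IsLocalRing.maximalIdeal _ :=
    IsLocalRing.eq_maximalIdeal (RingHom.ker_isMaximal_of_surjective _ hsurj)
  let e : IsLocalRing.ResidueField (TruncatedWittVector p n k) ≃+* k :=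
    (Ideal.quotEquivOfEq hker.symm).trans (RingHom.quotientKerEquivOfSurjective hsurj)
  have he : ∀ r, e (IsLocalRing.residue _ r) = coeffZero p k n hn r := fun r => rfl
  let σbar := (e.symm.toRingHom.comp f).comp e.toRingHom
  have hc : ∀ x : k, σbar (e.symm x) = e.symm (f x) := fun x => by simp [σbar]
  refine ⟨σbar, fun r => ?_, h2.of_equiv e.symm hc, h3.of_equiv e.symm hc, fun x hx => ?_⟩
  · apply e.injective
    simp only [σbar, RingHom.comp_apply, RingEquiv.toRingHom_eq_coe, RingEquiv.coe_toRingHom, he,
      RingEquiv.apply_symm_apply]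
    exact (WittGrp.coeff_truncMap p n f r ⟨0, hn⟩).symm
  · have hfx : f (e x) = e x := by
      conv_rhs => rw [← hx]
      simp [σbar]
    refine ⟨TruncatedWittVector.mk p (fun i => if i.val = 0 then e x else 0), ?_, ?_⟩
    · refine TruncatedWittVector.ext fun i => ?_
      rw [WittGrp.coeff_truncMap, TruncatedWittVector.coeff_mk]
      split_ifs <;> simp [hfx]
    · apply e.injective
      rw [he]
      exact (TruncatedWittVector.coeff_mk (p := p) (fun i : Fin n => if i.val = 0 then e x else 0) ⟨0, hn⟩).trans (if_pos rfl)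

theorem trunc_subsingleton {n : ℕ} (hn : ¬ 0 < n) : Subsingleton (TruncatedWittVector p n k) :=
  ⟨fun a b => TruncatedWittVector.ext fun i => absurd i.2 (by omega)⟩

theorem trunc_main (f : k →+* k) (h2 : Cond2 f) (h3 : Cond3 f) (hfin : {x : k | f x = x}.Finite)
    (M : Type v) [AddCommGroup M] [Module (TruncatedWittVector p n k) M]
    [Module.Finite (TruncatedWittVector p n k) M] (T : M →ₛₗ[WittGrp.truncMap p n f] M) :
    Function.Surjective (fun m : M => T m - m) ∧ {m : M | T m = m}.Finite := by
  by_cases hn : 0 < n
  · haveI := trunc_isLocal p k n hn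
    obtain ⟨σbar, hσbar, c2, c3, hlift⟩ := trunc_data p k n hn f h2 h3
    have hmax := trunc_maximalIdeal p k n hn
    refine ⟨fun m => ?_, ?_⟩
    · obtain ⟨x, hx⟩ := local_sub_surjective hmax hσbar T c2 c3 (trunc_p_pow p k n) (-m)
      refine ⟨x, ?_⟩
      simp only at hx ⊢
      rw [← neg_sub, hx, neg_neg]
    · obtain ⟨s, -, hs⟩ := fixed_finite_over hmax hσbar T c2 c3 (trunc_p_pow p k n) hlift
      let C : Set (TruncatedWittVector p n k) := {c | WittGrp.truncMap p n f c = c}
      have hC : C.Finite := by
        have hpi : (Set.pi Set.univ fun _ : Fin n => {x : k | f x = x}).Finite := Set.Finite.pi fun _ => hfin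
        refine (hpi.image (TruncatedWittVector.mk p)).subset fun c hc => ⟨c.coeff, fun i _ => ?_, TruncatedWittVector.mk_coeff c⟩
        exact (WittGrp.coeff_truncMap p n f c i).symm.trans (congrArg (fun z => z.coeff i) hc)
      haveI := hC.to_subtype
      refine (Set.finite_range fun c : s → C => ∑ x : s, (c x).1 • x.1).subset fun m hm => ?_
      obtain ⟨c, hc, rfl⟩ := hs m hm
      exact ⟨fun x => ⟨c x.1, hc x.1 x.2⟩, Finset.sum_coe_sort s (fun x => c x • x)⟩
  · haveI := trunc_subsingleton p k hn
    haveI := Module.subsingleton (TruncatedWittVector p n k) M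
    exact ⟨fun m => ⟨0, Subsingleton.elim _ _⟩, Set.toFinite _⟩

theorem trunc_both (σ : TruncatedWittVector p n k →+* TruncatedWittVector p n k)
    (hσ : σ = WittGrp.truncMap p n (frobenius k p) ∨
      σ = WittGrp.truncMap p n (frobeniusEquiv k p).symm.toRingHom)
    (M : Type v) [AddCommGroup M] [Module (TruncatedWittVector p n k) M]
    [Module.Finite (TruncatedWittVector p n k) M] (T : M →ₛₗ[σ] M) :
    Function.Surjective (fun m : M => T m - m) ∧ {m : M | T m = m}.Finite := by
  classical
  have hroots : {x : k | x ^ p = x}.Finite := by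
    have hP : (Polynomial.X ^ p - Polynomial.X : Polynomial k) ≠ 0 := by
      intro h
      have := congrArg (fun q => q.coeff p) h
      simp [Polynomial.coeff_X, (Fact.out : p.Prime).one_lt.ne] at this
    refine (Polynomial.finite_setOfPred_isRoot hP).subset fun x (hx : x ^ p = x) => ?_
    simp [Polynomial.IsRoot, hx]
  rcases hσ with rfl | rfl
  · refine trunc_main p k n _ ?_ ?_ ?_ M T
    · have := cond2_frobenius k p 1 one_pos; rwa [iterateFrobenius_one] at this
    · have := cond3_frobenius k p 1 one_pos; rwa [iterateFrobenius_one] at this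
    · simpa [frobenius_def] using hroots
  · refine trunc_main p k n _ (cond2_frobenius_inv k p) (cond3_frobenius_inv k p) ?_ M T
    refine hroots.subset fun x hx => ?_
    have h : (frobeniusEquiv k p).symm x = x := hx
    have := frobeniusEquiv_symm_pow_p k p x
    rwa [h] at this

end Groth.Agent.SigmaLinLib
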